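import Mathlib.LinearAlgebra.Matrix.Rank
import Mathlib.LinearAlgebra.Matrix.Basis
import Mathlib.LinearAlgebra.Matrix.ToLin
import Mathlib.Algebra.DirectSum.Module
import Mathlib.LinearAlgebra.FreeModule.Finite.Basic
import Mathlib.LinearAlgebra.Basis.VectorSpace
import Mathlib.Algebra.MonoidAlgebra.Basic
import Mathlib.Algebra.MonoidAlgebra.Lift
import Mathlib.LinearAlgebra.Matrix.NonsingularInverse
import Mathlib.LinearAlgebra.Matrix.Permutation
import Mathlib.Algebra.BigOperators.Fin

/-! Complete orthogonal families of idempotent matrices indexed by a finite group. -/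

universe u

namespace Groth.L15.MuGL

variable {R : Type u} [CommRing R] {M : Type} [AddCommGroup M] [Fintype M] [DecidableEq M] {m : ℕ}

/-- A complete family of orthogonal idempotent matrices. -/
structure IsFam (P : M → Matrix (Fin m) (Fin m) R) : Prop where
  mul : ∀ a b, P a * P b = if a = b then P a else 0
  sum : ∑ a, P a = 1

variable {P Q : M → Matrix (Fin m) (Fin m) R}

theorem IsFam.conj (hP : IsFam P) (G : (Matrix (Fin m) (Fin m) R)ˣ) :
    IsFam fun a => (G : Matrix (Fin m) (Fin m) R) * P a * (↑G⁻¹ : Matrix (Fin m) (Fin m) R) where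
  mul a b := by
    rw [show (G : Matrix (Fin m) (Fin m) R) * P a * ↑G⁻¹ * (↑G * P b * ↑G⁻¹) =
      ↑G * P a * (↑G⁻¹ * ↑G) * P b * ↑G⁻¹ by simp only [mul_assoc], Units.inv_mul, mul_one,
      mul_assoc (↑G : Matrix (Fin m) (Fin m) R) (P a) (P b), hP.mul]
    split_ifs <;> simp
  sum := by rw [← Finset.sum_mul, ← Finset.mul_sum, hP.sum, mul_one, Units.mul_inv]

/-- The diagonal family of a weight function. -/
def diagFam (R : Type u) [CommRing R] (w : Fin m → M) (a : M) : Matrix (Fin m) (Fin m) R :=
  Matrix.diagonal fun j => if w j = a then 1 else 0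

theorem isFam_diagFam (w : Fin m → M) : IsFam (diagFam R w) where
  mul a b := by
    rw [diagFam, diagFam, Matrix.diagonal_mul_diagonal]
    split_ifs with h
    · subst h
      congr 1
      funext j
      split_ifs <;> simp
    · refine Matrix.diagonal_eq_zero.2 (funext fun j => ?_)
      simp only [Pi.zero_apply, mul_ite, mul_one, mul_zero]
      split_ifs with h1 h2
      · exact absurd (h2.symm.trans h1) h
      · rfl
      · rfl
  sum := by
    ext i j
    simp only [Matrix.sum_apply, diagFam, Matrix.diagonal_apply, Matrix.one_apply]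
    split_ifs with h
    · simp
    · simp

theorem diagFam_map {S : Type u} [CommRing S] (f : R →+* S) (w : Fin m → M) (a : M) :
    (diagFam R w a).map f = diagFam S w a := by
  rw [diagFam, diagFam, Matrix.diagonal_map (map_zero f)]
  congr 1
  funext j
  simp [Function.comp_def, apply_ite f]

theorem isFam_map {S : Type u} [CommRing S] (f : R →+* S) (hP : IsFam P) :
    IsFam fun a => (P a).map f where
  mul a b := by
    rw [← Matrix.map_mul, hP.mul]
    split_ifs
    · rfl
    · exact Matrix.map_zero f (map_zero f)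
  sum := by
    have h := congrArg f.mapMatrix hP.sum
    rw [map_sum, map_one] at h
    exact h

omit [AddCommGroup M] in
/-- In a domain the only families of rank one are delta functions. -/
theorem exists_eq_single {K : Type u} [CommRing K] [IsDomain K] (y : M → K)
    (hmul : ∀ a b, y a * y b = if a = b then y a else 0) (hsum : ∑ a, y a = 1) :
    ∃ d, y = Pi.single d 1 := by
  obtain ⟨d, hd⟩ : ∃ d, y d ≠ 0 := by
    by_contra h
    simp only [not_exists, not_not] at h
    simp [h] at hsum
  refine ⟨d, funext fun a => ?_⟩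
  by_cases h : a = d
  · subst h
    rw [Pi.single_eq_same]
    have := hmul a a
    rw [if_pos rfl] at this
    exact (mul_eq_left₀ hd).1 this
  · rw [Pi.single_eq_of_ne h]
    have := hmul a d
    rw [if_neg h] at this
    exact (mul_eq_zero.1 this).resolve_right hd

section Field

variable {k : Type u} [Field k] {P : M → Matrix (Fin m) (Fin m) k}

/-- Every family over a field is conjugate to a diagonal one. -/
theorem IsFam.exists_diag (hP : IsFam P) :
    ∃ (S : (Matrix (Fin m) (Fin m) k)ˣ) (w : Fin m → M),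
      ∀ a, (S : Matrix (Fin m) (Fin m) k) * P a * (↑S⁻¹ : Matrix (Fin m) (Fin m) k) = diagFam k w a := by
  classical
  let A : M → Submodule k (Fin m → k) := fun a => LinearMap.range (Matrix.mulVecLin (P a))
  have hfix : ∀ a b, ∀ v ∈ A b, (P a).mulVec v = if a = b then v else 0 := by
    rintro a b _ ⟨v, rfl⟩
    rw [Matrix.mulVecLin_apply, Matrix.mulVec_mulVec, hP.mul]
    split_ifs with h
    · subst h; rfl
    · simp
  have hsum : ∀ v : Fin m → k, v = ∑ a, (P a).mulVec v := fun v => by
    rw [← Matrix.sum_mulVec, hP.sum, Matrix.one_mulVec]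
  have hint : DirectSum.IsInternal A := by
    rw [DirectSum.isInternal_submodule_iff_iSupIndep_and_iSup_eq_top]
    refine ⟨fun b => ?_, eq_top_iff.2 fun v _ => ?_⟩
    · rw [Submodule.disjoint_def]
      intro v hv hv'
      have h1 : (P b).mulVec v = v := by rw [hfix b b v hv, if_pos rfl]
      have h2 : ∀ u ∈ ⨆ (c : M) (_ : c ≠ b), A c, (P b).mulVec u = 0 := by
        intro u hu
        have : (⨆ (c : M) (_ : c ≠ b), A c) ≤ LinearMap.ker (Matrix.mulVecLin (P b)) :=
          iSup₂_le fun c hc u hu => by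
            rw [LinearMap.mem_ker, Matrix.mulVecLin_apply, hfix b c u hu, if_neg (Ne.symm hc)]
        exact this hu
      rw [← h1, h2 v hv']
    · rw [hsum v]
      exact sum_mem fun a _ => le_iSup A a ⟨v, rfl⟩
  let b₀ := hint.collectedBasis fun a => Module.finBasis k (A a)
  let e := b₀.indexEquiv (Pi.basisFun k (Fin m))
  let b := b₀.reindex e
  let w : Fin m → M := fun j => (e.symm j).1
  have hb : ∀ a j, (P a).mulVec (b j) = if w j = a then b j else 0 := by
    intro a j
    rw [hfix a (w j) (b j) (by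
      rw [Module.Basis.reindex_apply]
      exact hint.collectedBasis_mem _ _)]
    exact if_congr eq_comm rfl rfl
  let B := (Pi.basisFun k (Fin m)).toMatrix b
  haveI : Invertible B := (Pi.basisFun k (Fin m)).invertibleToMatrix b
  let S : (Matrix (Fin m) (Fin m) k)ˣ := (unitOfInvertible B)⁻¹
  refine ⟨S, w, fun a => ?_⟩
  have hPB : P a * B = B * diagFam k w a := by
    ext i j
    rw [diagFam, Matrix.mul_diagonal]
    have h := congrFun (hb a j) i
    have hB : ∀ l l', B l l' = b l' l := fun l l' => by simp [B, Module.Basis.toMatrix_apply]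
    rw [Matrix.mul_apply]
    simp only [hB]
    rw [Matrix.mulVec, dotProduct] at h
    rw [h]
    split_ifs <;> simp
  have : (↑S⁻¹ : Matrix (Fin m) (Fin m) k) = B := by simp [S]
  rw [this, mul_assoc, hPB, ← mul_assoc, show (S : Matrix (Fin m) (Fin m) k) * B = 1 by
    rw [← this]; exact Units.mul_inv S, one_mul]

omit [AddCommGroup M] [Fintype M] in
theorem rank_diagFam (w : Fin m → M) (a : M) :
    (diagFam k w a).rank = (Finset.univ.filter fun j => w j = a).card := by
  classical
  rw [diagFam, Matrix.rank_diagonal, Fintype.card_subtype]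
  congr 1
  ext j
  simp

omit [AddCommGroup M] [Fintype M] in
/-- Equal multiplicities give a permutation. -/
theorem exists_perm (w w' : Fin m → M)
    (h : ∀ a, (Finset.univ.filter fun j => w j = a).card = (Finset.univ.filter fun j => w' j = a).card) :
    ∃ σ : Equiv.Perm (Fin m), ∀ j, w' (σ j) = w j := by
  have hc : ∀ a, Nonempty ({j // w j = a} ≃ {j // w' j = a}) := fun a => by
    refine ⟨Fintype.equivOfCardEq ?_⟩
    rw [Fintype.card_subtype, Fintype.card_subtype]
    exact h a
  exact ⟨Equiv.ofFiberEquiv (f := w) (g := w') fun a => (hc a).some, fun j => Equiv.ofFiberEquiv_map _ j⟩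

omit [AddCommGroup M] [Fintype M] in
theorem exists_conj_diagFam (w w' : Fin m → M) (σ : Equiv.Perm (Fin m)) (hσ : ∀ j, w' (σ j) = w j) :
    ∃ G : (Matrix (Fin m) (Fin m) k)ˣ, ∀ a,
      (G : Matrix (Fin m) (Fin m) k) * diagFam k w a * (↑G⁻¹ : Matrix (Fin m) (Fin m) k) = diagFam k w' a := by
  let Pσ : Matrix (Fin m) (Fin m) k := fun i j => if σ j = i then 1 else 0
  let Pσ' : Matrix (Fin m) (Fin m) k := fun i j => if σ i = j then 1 else 0
  have h1 : Pσ * Pσ' = 1 := by
    ext i j
    rw [Matrix.mul_apply, Finset.sum_eq_single (σ.symm i)]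
    · simp [Pσ, Pσ', Matrix.one_apply]
    · intro l _ hl
      have : σ l ≠ i := fun hh => hl (by rw [← hh, Equiv.symm_apply_apply])
      simp [Pσ, this]
    · simp
  have h2 : Pσ' * Pσ = 1 := mul_eq_one_comm.1 h1
  refine ⟨⟨Pσ, Pσ', h1, h2⟩, fun a => ?_⟩
  have h3 : Pσ * diagFam k w a = diagFam k w' a * Pσ := by
    ext i j
    rw [diagFam, diagFam, Matrix.mul_diagonal, Matrix.diagonal_mul]
    by_cases hij : σ j = i
    · subst hij
      simp [Pσ, hσ]
    · simp [Pσ, hij]
  change Pσ * diagFam k w a * Pσ' = _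
  rw [h3, mul_assoc, h1, mul_one]

/-- Rationality of conjugacy. -/
theorem exists_conj_of_ext {K : Type u} [Field K] (f : k →+* K) {Q : M → Matrix (Fin m) (Fin m) k}
    (hP : IsFam P) (hQ : IsFam Q) (G : (Matrix (Fin m) (Fin m) K)ˣ)
    (h : ∀ a, (G : Matrix (Fin m) (Fin m) K) * (P a).map f * (↑G⁻¹ : Matrix (Fin m) (Fin m) K) = (Q a).map f) :
    ∃ G' : (Matrix (Fin m) (Fin m) k)ˣ, ∀ a,
      (G' : Matrix (Fin m) (Fin m) k) * P a * (↑G'⁻¹ : Matrix (Fin m) (Fin m) k) = Q a := by
  classical
  obtain ⟨S, w, hS⟩ := hP.exists_diag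
  obtain ⟨T, w', hT⟩ := hQ.exists_diag
  let fS := Units.map f.mapMatrix.toMonoidHom S
  let fT := Units.map f.mapMatrix.toMonoidHom T
  have hcard : ∀ a, (Finset.univ.filter fun j => w j = a).card = (Finset.univ.filter fun j => w' j = a).card := by
    intro a
    rw [← rank_diagFam (k := K), ← rank_diagFam (k := K), ← diagFam_map f, ← diagFam_map f, ← hS, ← hT]
    rw [Matrix.map_mul, Matrix.map_mul, Matrix.map_mul, Matrix.map_mul]
    change ((fS : Matrix (Fin m) (Fin m) K) * (P a).map f * (↑fS⁻¹ : Matrix (Fin m) (Fin m) K)).rank =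
      ((fT : Matrix (Fin m) (Fin m) K) * (Q a).map f * (↑fT⁻¹ : Matrix (Fin m) (Fin m) K)).rank
    have key : ∀ (U : (Matrix (Fin m) (Fin m) K)ˣ) (X : Matrix (Fin m) (Fin m) K),
        ((U : Matrix (Fin m) (Fin m) K) * X * (↑U⁻¹ : Matrix (Fin m) (Fin m) K)).rank = X.rank := by
      intro U X
      rw [Matrix.rank_mul_eq_left_of_isUnit_det _ _ ((Matrix.isUnit_iff_isUnit_det _).1 U⁻¹.isUnit),
        Matrix.rank_mul_eq_right_of_isUnit_det _ _ ((Matrix.isUnit_iff_isUnit_det _).1 U.isUnit)]
    rw [key, key, ← h a, key]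
  obtain ⟨σ, hσ⟩ := exists_perm w w' hcard
  obtain ⟨G₀, hG₀⟩ := exists_conj_diagFam (k := k) w w' σ hσ
  refine ⟨T⁻¹ * G₀ * S, fun a => ?_⟩
  have hT' : (↑T⁻¹ : Matrix (Fin m) (Fin m) k) * diagFam k w' a * T = Q a := by
    rw [← hT, mul_assoc, mul_assoc _ (↑T⁻¹ : Matrix (Fin m) (Fin m) k), Units.inv_mul, mul_one,
      ← mul_assoc, Units.inv_mul, one_mul]
  rw [← hT', ← hG₀, ← hS]
  simp only [mul_inv_rev, inv_inv, Units.val_mul, mul_assoc]

end Field

end Groth.L15.MuGL
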