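import Groth.Agent.L15.MuGL.Mor
import Groth.Agent.L23.Descent
import Mathlib.FieldTheory.IsAlgClosed.Basic
import Mathlib.Data.ZMod.Basic

/-! Rationality of dual cyclic subgroups of `GL_m`. -/

set_option autoImplicit false
universe u

open CategoryTheory CategoryTheory.Limits MonoidalCategory CartesianMonoidalCategory MonObj GrpObj
open AlgebraicGeometry Opposite

set_option backward.isDefEq.respectTransparency.types false

noncomputable section

namespace Groth.L15.MuGL

variable {R : Type u} [CommRing R] {M : Type} [AddCommGroup M] [Fintype M] [DecidableEq M] {m : ℕ}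

theorem IsFam.comp_equiv {P : M → Matrix (Fin m) (Fin m) R} (hP : IsFam P) (v : M ≃+ M) :
    IsFam fun a => P (v a) where
  mul a b := by rw [hP.mul]; simp
  sum := by rw [← hP.sum]; exact v.toEquiv.sum_comp P

omit [Fintype M] [DecidableEq M] in
theorem exists_dPts {T : Over (Spec (CommRingCat.of R))} [GrpObj T] (hT : Red.IsSplitTorusWith M T) :
    Nonempty (DPts R M T) := by
  obtain ⟨e⟩ := hT
  let e' : Red.DS (Spec (CommRingCat.of R)) M ≅ T := ((Grp.forget _).mapIso e).symm
  haveI : IsMonHom e'.hom := e.inv.hom.isMonHom_hom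
  exact ⟨(dPtsDS R M).ofIso e'⟩

section Conj

variable {S : Scheme.{u}} {G : Over S} [GrpObj G]

theorem comp_conjBy {H H' : Over S} (g : 𝟙_ (Over S) ⟶ G) (f : H' ⟶ H) (h : H ⟶ G) :
    f ≫ AGF.conjBy g h = AGF.conjBy g (f ≫ h) := by
  simp only [AGF.conjBy, MonObj.comp_mul, GrpObj.comp_inv, ← Category.assoc,
    toUnit_unique (f ≫ toUnit H) (toUnit H')]

theorem isIso_conjBy_id (g : 𝟙_ (Over S) ⟶ G) : IsIso (AGF.conjBy g (𝟙 G)) := by
  refine ⟨AGF.conjBy g⁻¹ (𝟙 G), ?_, ?_⟩ <;>
  · rw [comp_conjBy, Category.comp_id]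
    simp only [AGF.conjBy, GrpObj.comp_inv, _root_.inv_inv]
    group

end Conj

/-- Rationality of conjugacy. -/
theorem rational_conj {k : Type u} [Field k] (K : Type u) [Field K] [Algebra k K]
    {σ τ G : Over (Spec (CommRingCat.of k))} [GrpObj σ] [GrpObj τ] [GrpObj G]
    (D : DPts k M σ) (D' : DPts k M τ) (L : GLPts k m G) (i : σ ⟶ G) (j : τ ⟶ G) [IsMonHom i] [IsMonHom j]
    [Mono j] (g : 𝟙_ (Over (Spec (CommRingCat.of K))) ⟶ Red.bc (Spec.map (CommRingCat.ofHom (algebraMap k K))) G)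
    (φ : Red.bc (Spec.map (CommRingCat.ofHom (algebraMap k K))) σ ≅
      Red.bc (Spec.map (CommRingCat.ofHom (algebraMap k K))) τ)
    (hφ : AGF.conjBy g ((Over.pullback (Spec.map (CommRingCat.ofHom (algebraMap k K)))).map i) =
      φ.hom ≫ (Over.pullback (Spec.map (CommRingCat.ofHom (algebraMap k K)))).map j) :
    ∃ (g : 𝟙_ (Over (Spec (CommRingCat.of k))) ⟶ G) (φ : σ ≅ τ), AGF.conjBy g i = φ.hom ≫ j := by
  obtain ⟨P, hP, hiP⟩ := exists_fam D L i
  obtain ⟨Q, hQ, hjQ⟩ := exists_fam D' L j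
  have hPK := isFam_map (algebraMap k K) hP
  have hQK := isFam_map (algebraMap k K) hQ
  have hiK := hiP.bc K
  have hjK := hjQ.bc K
  set iK := (Over.pullback (Spec.map (CommRingCat.ofHom (algebraMap k K)))).map i
  set jK := (Over.pullback (Spec.map (CommRingCat.ofHom (algebraMap k K)))).map j
  haveI : IsMonHom jK := hjK.isMonHom hQK
  have hc := hiK.conjBy hPK g
  haveI : IsMonHom (AGF.conjBy g iK) := hc.isMonHom (hPK.conj _)
  haveI : Mono jK := inferInstance
  haveI : IsMonHom φ.hom := by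
    constructor
    · rw [← cancel_mono jK, Category.assoc, ← hφ, IsMonHom.one_hom, IsMonHom.one_hom]
    · rw [← cancel_mono jK, Category.assoc, Category.assoc, ← hφ, IsMonHom.mul_hom, IsMonHom.mul_hom,
        hφ, ← Category.assoc, tensorHom_comp_tensorHom]
  obtain ⟨v, hv⟩ := exists_addEquiv (D.bc K) (D'.bc K) φ
  have hcj := hjK.comp v hv
  rw [← hφ] at hcj
  have heq := hc.unique hcj
  obtain ⟨G', hG'⟩ := exists_conj_of_ext (algebraMap k K) hP (hQ.comp_equiv v.symm) _ (fun a => congrFun heq a)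
  obtain ⟨g', hg'⟩ := L.exists_point G'
  obtain ⟨φ', hφ'⟩ := exists_iso D D' v
  refine ⟨g', φ', ?_⟩
  have h1 := hiP.conjBy hP g'
  rw [hg', MulEquiv.symm_apply_apply, show (fun a => (G' : Matrix (Fin m) (Fin m) k) * P a *
    (↑G'⁻¹ : Matrix (Fin m) (Fin m) k)) = _ from funext hG'] at h1
  exact h1.ext (hjQ.comp v hφ')

/-- A rational model. -/
theorem rational_model {k : Type u} [Field k] (K : Type u) [Field K] [Algebra k K]
    {σ G : Over (Spec (CommRingCat.of k))} [GrpObj σ] [GrpObj G]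
    {σ' : Over (Spec (CommRingCat.of K))} [GrpObj σ']
    (D : DPts k M σ) (D' : DPts K M σ') (L : GLPts k m G)
    (i' : σ' ⟶ Red.bc (Spec.map (CommRingCat.ofHom (algebraMap k K))) G) [IsMonHom i']
    (hi' : IsClosedImmersion i'.left) :
    ∃ (i : σ ⟶ G) (_ : IsMonHom i), IsClosedImmersion i.left ∧
      ∃ (g : 𝟙_ (Over (Spec (CommRingCat.of K))) ⟶ Red.bc (Spec.map (CommRingCat.ofHom (algebraMap k K))) G)
        (φ : σ' ≅ Red.bc (Spec.map (CommRingCat.ofHom (algebraMap k K))) σ),
        AGF.conjBy g i' = φ.hom ≫ (Over.pullback (Spec.map (CommRingCat.ofHom (algebraMap k K)))).map i := by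
  obtain ⟨P, hP, hiP⟩ := exists_fam D' (L.bc K) i'
  obtain ⟨S, w, hS⟩ := hP.exists_diag
  obtain ⟨i, hi, hiw⟩ := exists_hasFam D L (isFam_diagFam (R := k) w)
  obtain ⟨g, hg⟩ := (L.bc K).exists_point S
  obtain ⟨φ, hφ⟩ := exists_iso D' (D.bc K) (AddEquiv.refl M)
  have h1 := hiP.conjBy hP g
  rw [hg, MulEquiv.symm_apply_apply, show (fun a => (S : Matrix (Fin m) (Fin m) K) * P a *
    (↑S⁻¹ : Matrix (Fin m) (Fin m) K)) = _ from funext hS] at h1
  have h2 := (hiw.bc K).comp (AddEquiv.refl M) hφ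
  simp only [AddEquiv.refl_symm, AddEquiv.refl_apply, diagFam_map] at h2
  have heq : AGF.conjBy g i' = φ.hom ≫ (Over.pullback (Spec.map (CommRingCat.ofHom (algebraMap k K)))).map i :=
    h1.ext h2
  refine ⟨i, hi, ?_, g, φ, heq⟩
  have hK : IsClosedImmersion
      ((Over.pullback (Spec.map (CommRingCat.ofHom (algebraMap k K)))).map i).left := by
    rw [← φ.inv_hom_id_assoc ((Over.pullback (Spec.map (CommRingCat.ofHom (algebraMap k K)))).map i), ← heq,
      show AGF.conjBy g i' = i' ≫ AGF.conjBy g (𝟙 _) by rw [comp_conjBy, Category.comp_id]]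
    haveI := isIso_conjBy_id g
    haveI : IsIso (AGF.conjBy g (𝟙 (Red.bc (Spec.map (CommRingCat.ofHom (algebraMap k K))) G))).left :=
      inferInstanceAs (IsIso ((Over.forget (Spec (CommRingCat.of K))).map (AGF.conjBy g (𝟙 _))))
    simp only [Over.comp_left]
    infer_instance
  have hsq : IsPullback ((Over.pullback (Spec.map (CommRingCat.ofHom (algebraMap k K)))).map i).left (pullback.fst σ.hom _) (pullback.fst G.hom _) i.left := by
    have hw := Over.w i
    refine IsPullback.of_right (h₁₂ := pullback.snd G.hom _) (h₂₂ := G.hom)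
      (v₁₃ := Spec.map (CommRingCat.ofHom (algebraMap k K))) ?_ ?_ (IsPullback.of_hasPullback G.hom _).flip
    · have h3 := (IsPullback.of_hasPullback σ.hom (Spec.map (CommRingCat.ofHom (algebraMap k K)))).flip
      rw [show ((Over.pullback (Spec.map (CommRingCat.ofHom (algebraMap k K)))).map i).left ≫ pullback.snd G.hom _ =
        pullback.snd σ.hom _ from pullback.lift_snd _ _ _, Over.w i]
      exact h3
    · exact pullback.lift_fst _ _ _
  haveI : Flat (Spec.map (CommRingCat.ofHom (algebraMap k K))) :=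
    Flat.SpecMap_iff.2 (RingHom.flat_algebraMap_iff.2 inferInstance)
  haveI : Surjective (Spec.map (CommRingCat.ofHom (algebraMap k K))) := ⟨PrimeSpectrum.comap_surjective_of_faithfullyFlat⟩
  refine MorphismProperty.of_isPullback_of_descendsAlong (Q := @Surjective ⊓ @Flat ⊓ @QuasiCompact) hsq ?_ hK
  exact ⟨⟨inferInstance, inferInstance⟩, inferInstance⟩

end Groth.L15.MuGL
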