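import Groth.Agent.L15.MuGL.Pts
import Groth.Agent.L15.MuGL.Fam
import Groth.Prelude.Def_AGF
import Mathlib.RingTheory.Coalgebra.GroupLike
import Mathlib.Algebra.MonoidAlgebra.Lift

/-! Homomorphisms from diagonalisable groups to `GL_m` are families of idempotent matrices. -/

set_option autoImplicit false
universe u

open CategoryTheory CategoryTheory.Limits MonoidalCategory CartesianMonoidalCategory MonObj GrpObj
open AlgebraicGeometry Opposite

set_option backward.isDefEq.respectTransparency.types false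

noncomputable section

namespace Groth.L15.MuGL

variable {R : Type u} [CommRing R] {M : Type} [AddCommGroup M] [Fintype M] [DecidableEq M] {m : ℕ}

/-- The matrix attached to a character by a family. -/
def ev (P : M → Matrix (Fin m) (Fin m) R) {B : Type u} [CommRing B] [Algebra R B]
    (χ : Multiplicative M →* B) : Matrix (Fin m) (Fin m) B :=
  ∑ a, χ (Multiplicative.ofAdd a) • (P a).map (algebraMap R B)

omit [DecidableEq M] in
theorem ev_apply (P : M → Matrix (Fin m) (Fin m) R) {B : Type u} [CommRing B] [Algebra R B]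
    (χ : Multiplicative M →* B) (i j : Fin m) :
    ev P χ i j = ∑ a, χ (Multiplicative.ofAdd a) * algebraMap R B (P a i j) := by
  simp [ev, Matrix.sum_apply]

omit [DecidableEq M] in
theorem ev_map (P : M → Matrix (Fin m) (Fin m) R) {B B' : Type u} [CommRing B] [Algebra R B] [CommRing B']
    [Algebra R B'] (f : B →ₐ[R] B') (χ : Multiplicative M →* B) :
    (ev P χ).map f = ev P ((f : B →* B').comp χ) := by
  ext i j
  rw [Matrix.map_apply, ev_apply, ev_apply, map_sum]
  refine Finset.sum_congr rfl fun a _ => ?_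
  rw [map_mul, AlgHom.commutes]
  rfl

theorem ev_mul {P : M → Matrix (Fin m) (Fin m) R} (hP : IsFam P) {B : Type u} [CommRing B] [Algebra R B]
    (χ ψ : Multiplicative M →* B) : ev P (χ * ψ) = ev P χ * ev P ψ := by
  have h := isFam_map (algebraMap R B) hP
  rw [ev, ev, ev, Finset.sum_mul]
  refine Finset.sum_congr rfl fun a _ => ?_
  rw [Finset.mul_sum, Finset.sum_eq_single a]
  · rw [smul_mul_smul_comm, h.mul, if_pos rfl, MonoidHom.mul_apply]
  · intro b _ hb
    rw [smul_mul_smul_comm, h.mul, if_neg (Ne.symm hb), smul_zero]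
  · simp

theorem ev_one {P : M → Matrix (Fin m) (Fin m) R} (hP : IsFam P) {B : Type u} [CommRing B] [Algebra R B] :
    ev P (1 : Multiplicative M →* B) = 1 := by
  rw [ev, ← (isFam_map (algebraMap R B) hP).sum]
  exact Finset.sum_congr rfl fun a _ => by rw [MonoidHom.one_apply, one_smul]

/-- The invertible matrix attached to a character. -/
def evU {P : M → Matrix (Fin m) (Fin m) R} (hP : IsFam P) {B : Type u} [CommRing B] [Algebra R B]
    (χ : Multiplicative M →* B) : (Matrix (Fin m) (Fin m) B)ˣ where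
  val := ev P χ
  inv := ev P (χ.comp invMonoidHom)
  val_inv := by
    rw [← ev_mul hP, show χ * χ.comp invMonoidHom = 1 from MonoidHom.ext fun x => by
      simp [← map_mul], ev_one hP]
  inv_val := by
    rw [← ev_mul hP, show χ.comp invMonoidHom * χ = 1 from MonoidHom.ext fun x => by
      simp [← map_mul], ev_one hP]

section Coeff

/-- The universal character. -/
abbrev ofM (R : Type u) [CommRing R] (M : Type) [AddCommGroup M] :
    Multiplicative M →* MonoidAlgebra R (Multiplicative M) :=
  MonoidAlgebra.of R (Multiplicative M)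

theorem coeff_ev (P : M → Matrix (Fin m) (Fin m) R) (a : M) (i j : Fin m) :
    (ev P (ofM R M) i j).coeff (Multiplicative.ofAdd a) = P a i j := by
  rw [ev_apply, MonoidAlgebra.coeff_sum, Finsupp.finsetSum_apply, Finset.sum_eq_single a]
  · simp [MonoidAlgebra.coe_algebraMap, MonoidAlgebra.single_mul_single]
  · intro b _ hb
    simp [MonoidAlgebra.coe_algebraMap, MonoidAlgebra.single_mul_single, hb]
  · simp

theorem ev_injective {P Q : M → Matrix (Fin m) (Fin m) R} (h : ev P (ofM R M) = ev Q (ofM R M)) : P = Q := by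
  funext a
  ext i j
  rw [← coeff_ev P a i j, h, coeff_ev]

theorem lift_eq_sum {B : Type u} [CommRing B] [Algebra R B] (χ : Multiplicative M →* B)
    (y : MonoidAlgebra R (Multiplicative M)) :
    MonoidAlgebra.lift R B (Multiplicative M) χ y =
      ∑ a, χ (Multiplicative.ofAdd a) * algebraMap R B (y.coeff (Multiplicative.ofAdd a)) := by
  induction y using MonoidAlgebra.induction_linear with
  | zero => simp
  | add p q hp hq =>
    simp only [map_add, hp, hq, MonoidAlgebra.coeff_add, Finsupp.add_apply, mul_add, Finset.sum_add_distrib]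
  | single a r =>
    rw [MonoidAlgebra.lift_single, Finset.sum_eq_single a.toAdd]
    · simp [Algebra.smul_def, mul_comm]
    · intro b _ hb
      have hba : a ≠ Multiplicative.ofAdd b := fun h => hb (by rw [h, toAdd_ofAdd])
      simp [hba]
    · simp

/-- Rules natural and multiplicative in the character come from families. -/
theorem exists_fam_of_natural
    (ρ : ∀ (B : Type u) [CommRing B] [Algebra R B], (Multiplicative M →* B) → Matrix (Fin m) (Fin m) B)
    (hnat : ∀ {B B' : Type u} [CommRing B] [Algebra R B] [CommRing B'] [Algebra R B'] (f : B →ₐ[R] B')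
      (χ : Multiplicative M →* B), (ρ B χ).map f = ρ B' ((f : B →* B').comp χ))
    (hmul : ∀ (B : Type u) [CommRing B] [Algebra R B] (χ ψ : Multiplicative M →* B),
      ρ B (χ * ψ) = ρ B χ * ρ B ψ)
    (hone : ρ R 1 = 1) :
    ∃ P : M → Matrix (Fin m) (Fin m) R, IsFam P ∧
      ∀ (B : Type u) [CommRing B] [Algebra R B] (χ : Multiplicative M →* B), ρ B χ = ev P χ := by
  classical
  let P : M → Matrix (Fin m) (Fin m) R := fun a =>
    (ρ _ (ofM R M)).map fun y => y.coeff (Multiplicative.ofAdd a)
  have hev : ∀ (B : Type u) [CommRing B] [Algebra R B] (χ : Multiplicative M →* B), ρ B χ = ev P χ := by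
    intro B _ _ χ
    have h := hnat (MonoidAlgebra.lift R B (Multiplicative M) χ) (ofM R M)
    rw [show ((MonoidAlgebra.lift R B (Multiplicative M) χ : MonoidAlgebra R (Multiplicative M) →ₐ[R] B) :
      MonoidAlgebra R (Multiplicative M) →* B).comp (ofM R M) = χ from MonoidHom.ext fun x => by simp] at h
    rw [← h]
    ext i j
    rw [Matrix.map_apply, lift_eq_sum, ev_apply]
    rfl
  refine ⟨P, ⟨fun a b => ?_, ?_⟩, hev⟩
  · let MM := Multiplicative M × Multiplicative M
    let χ₁ : Multiplicative M →* MonoidAlgebra R MM := (MonoidAlgebra.of R MM).comp (MonoidHom.inl _ _)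
    let χ₂ : Multiplicative M →* MonoidAlgebra R MM := (MonoidAlgebra.of R MM).comp (MonoidHom.inr _ _)
    have h := hmul _ χ₁ χ₂
    rw [hev, hev, hev] at h
    have hcoef : ∀ (p q : MM) (X : Matrix (Fin m) (Fin m) R) (i j : Fin m),
        ((MonoidAlgebra.of R MM p • X.map (algebraMap R (MonoidAlgebra R MM))) i j).coeff q =
          if p = q then X i j else 0 := by
      intro p q X i j
      simp [MonoidAlgebra.coe_algebraMap, MonoidAlgebra.single_mul_single, Finsupp.single_apply]
    have h1 : ev P χ₁ * ev P χ₂ = ∑ x, ∑ y,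
        MonoidAlgebra.of R MM (Multiplicative.ofAdd x, Multiplicative.ofAdd y) •
          (P x * P y).map (algebraMap R (MonoidAlgebra R MM)) := by
      rw [ev, ev, Finset.sum_mul]
      refine Finset.sum_congr rfl fun x _ => ?_
      rw [Finset.mul_sum]
      refine Finset.sum_congr rfl fun y _ => ?_
      rw [smul_mul_smul_comm, Matrix.map_mul]
      congr 1
      change MonoidAlgebra.of R MM (Multiplicative.ofAdd x, 1) * MonoidAlgebra.of R MM (1, Multiplicative.ofAdd y) = _
      rw [← map_mul, Prod.mk_mul_mk, _root_.mul_one, _root_.one_mul]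
    have h2 : ev P (χ₁ * χ₂) = ∑ x,
        MonoidAlgebra.of R MM (Multiplicative.ofAdd x, Multiplicative.ofAdd x) •
          (P x).map (algebraMap R (MonoidAlgebra R MM)) := by
      refine Finset.sum_congr rfl fun x _ => ?_
      congr 1
      change MonoidAlgebra.of R MM (Multiplicative.ofAdd x, 1) * MonoidAlgebra.of R MM (1, Multiplicative.ofAdd x) = _
      rw [← map_mul, Prod.mk_mul_mk, _root_.mul_one, _root_.one_mul]
    rw [h1, h2] at h
    ext i j
    have h' := congrArg (fun X : Matrix (Fin m) (Fin m) (MonoidAlgebra R MM) =>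
      (X i j).coeff (Multiplicative.ofAdd a, Multiplicative.ofAdd b)) h
    simp only [Matrix.sum_apply, MonoidAlgebra.coeff_sum, Finsupp.finsetSum_apply, hcoef, Prod.mk.injEq,
      EmbeddingLike.apply_eq_iff_eq] at h'
    have e1 : (∑ x : M, ∑ y : M, if ((Multiplicative.ofAdd x, Multiplicative.ofAdd y) : MM) = (Multiplicative.ofAdd a, Multiplicative.ofAdd b) then (P x * P y) i j else 0) = (P a * P b) i j := by
      rw [Finset.sum_eq_single a]
      · rw [Finset.sum_eq_single b]
        · simp
        · intro y _ hy; simp [MM, hy]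
        · simp
      · intro x _ hx; exact Finset.sum_eq_zero fun y _ => by simp [MM, hx]
      · simp
    have e2 : (∑ x : M, if ((Multiplicative.ofAdd x, Multiplicative.ofAdd x) : MM) = (Multiplicative.ofAdd a, Multiplicative.ofAdd b) then P x i j else 0) = if a = b then P a i j else 0 := by
      rw [Finset.sum_eq_single a]
      · simp
      · intro x _ hx; simp [MM, hx]
      · simp
    rw [e1, e2] at h'
    rw [← h']
    split_ifs <;> simp
  · rw [← hone, hev R 1, ev]
    exact Finset.sum_congr rfl fun a _ => by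
      rw [MonoidHom.one_apply, one_smul, Algebra.algebraMap_self]; exact (Matrix.map_id _).symm

end Coeff

section Obj

variable {T T' G : Over (Spec (CommRingCat.of R))} [GrpObj T] [GrpObj T'] [GrpObj G]
  (D : DPts R M T) (D' : DPts R M T') (L : GLPts R m G)

/-- `i` is given by the family `P`. -/
def HasFam (i : T ⟶ G) (P : M → Matrix (Fin m) (Fin m) R) : Prop :=
  ∀ (B : Type u) [CommRing B] [Algebra R B] (χ : Multiplicative M →* B),
    (((L.pt B).symm (D.pt B χ ≫ i) : (Matrix (Fin m) (Fin m) B)ˣ) : Matrix (Fin m) (Fin m) B) = ev P χ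

omit [Fintype M] [DecidableEq M] in
theorem DPts.hom_ext {X : Over (Spec (CommRingCat.of R))} {f g : T ⟶ X}
    (h : ∀ (B : Type u) [CommRing B] [Algebra R B] (χ : Multiplicative M →* B), D.pt B χ ≫ f = D.pt B χ ≫ g) :
    f = g := by
  haveI := D.affine
  obtain ⟨A, _, _, e, _⟩ := exists_isIso_sp T
  rw [← cancel_epi e]
  have := h A ((D.pt A).symm e)
  rwa [MulEquiv.apply_symm_apply] at this

omit [Fintype M] [DecidableEq M] in
/-- Maps out of `T` are natural rules on characters. -/
theorem DPts.exists_hom {X : Over (Spec (CommRingCat.of R))}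
    (ρ : ∀ (B : Type u) [CommRing B] [Algebra R B], (Multiplicative M →* B) → (CoactBr.sp R B ⟶ X))
    (hnat : ∀ {B B' : Type u} [CommRing B] [Algebra R B] [CommRing B'] [Algebra R B'] (f : B →ₐ[R] B')
      (χ : Multiplicative M →* B), CoactBr.pt f ≫ ρ B χ = ρ B' ((f : B →* B').comp χ)) :
    ∃ i : T ⟶ X, ∀ (B : Type u) [CommRing B] [Algebra R B] (χ : Multiplicative M →* B),
      D.pt B χ ≫ i = ρ B χ := by
  haveI := D.affine
  obtain ⟨A, _, _, e, _⟩ := exists_isIso_sp T
  let χ₀ := (D.pt A).symm e
  refine ⟨inv e ≫ ρ A χ₀, fun B _ _ χ => ?_⟩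
  obtain ⟨φ, hφ⟩ := pt_surjective R (D.pt B χ ≫ inv e)
  have hχ : χ = (φ : A →* B).comp χ₀ := by
    apply (D.pt B).injective
    rw [← D.natural, MulEquiv.apply_symm_apply, hφ, Category.assoc, IsIso.inv_hom_id, Category.comp_id]
  rw [← Category.assoc, ← hφ, hnat, ← hχ]

omit [Fintype M] [DecidableEq M] in
theorem DPts.isMonHom {H : Over (Spec (CommRingCat.of R))} [GrpObj H] {i : T ⟶ H}
    (hmul : ∀ (B : Type u) [CommRing B] [Algebra R B] (χ ψ : Multiplicative M →* B),
      D.pt B (χ * ψ) ≫ i = (D.pt B χ ≫ i) * (D.pt B ψ ≫ i)) : IsMonHom i := by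
  haveI := D.affine
  constructor
  · haveI := isIso_toUnit_self R
    rw [← cancel_epi (toUnit (CoactBr.sp R R))]
    have h1 : (D.pt R 1 ≫ i) = 1 := by
      have h := hmul R 1 1
      rw [_root_.one_mul] at h
      exact mul_eq_left.1 h.symm
    rw [map_one, Hom.one_def, Category.assoc, Hom.one_def] at h1
    exact h1
  · haveI : IsAffine (T ⊗ T).left := by
      haveI : IsAffine T.left := D.affine
      exact inferInstanceAs (IsAffine (pullback T.hom T.hom))
    obtain ⟨A, _, _, e, _⟩ := exists_isIso_sp (T ⊗ T)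
    rw [← cancel_epi e]
    have key : e = lift (e ≫ fst T T) (e ≫ snd T T) := by
      apply CartesianMonoidalCategory.hom_ext <;> simp
    obtain ⟨χ, hχ⟩ := (D.pt A).surjective (e ≫ fst T T)
    obtain ⟨ψ, hψ⟩ := (D.pt A).surjective (e ≫ snd T T)
    rw [key, ← hχ, ← hψ, lift_map_assoc, ← Category.assoc, ← Hom.mul_def, ← Hom.mul_def,
      ← map_mul (D.pt A)]
    exact hmul A χ ψ

variable {D D' L}

theorem HasFam.eq_pt {i : T ⟶ G} {P : M → Matrix (Fin m) (Fin m) R} (h : HasFam D L i P) (hP : IsFam P)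
    (B : Type u) [CommRing B] [Algebra R B] (χ : Multiplicative M →* B) :
    D.pt B χ ≫ i = L.pt B (evU hP χ) := by
  rw [← (L.pt B).apply_symm_apply (D.pt B χ ≫ i)]
  exact congrArg _ (Units.ext (h B χ))

omit [DecidableEq M] in
theorem HasFam.ext {i i' : T ⟶ G} {P : M → Matrix (Fin m) (Fin m) R} (h : HasFam D L i P)
    (h' : HasFam D L i' P) : i = i' :=
  D.hom_ext fun B _ _ χ => (L.pt B).symm.injective (Units.ext ((h B χ).trans (h' B χ).symm))

theorem HasFam.unique {i : T ⟶ G} {P Q : M → Matrix (Fin m) (Fin m) R} (h : HasFam D L i P)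
    (h' : HasFam D L i Q) : P = Q :=
  ev_injective ((h _ (ofM R M)).symm.trans (h' _ (ofM R M)))

theorem HasFam.isMonHom {i : T ⟶ G} {P : M → Matrix (Fin m) (Fin m) R} (h : HasFam D L i P) (hP : IsFam P) :
    IsMonHom i :=
  D.isMonHom fun B _ _ χ ψ => by
    rw [h.eq_pt hP, h.eq_pt hP, h.eq_pt hP, ← map_mul (L.pt B)]
    exact congrArg _ (Units.ext (ev_mul hP χ ψ))

variable (D L) in
theorem exists_fam (i : T ⟶ G) [IsMonHom i] : ∃ P, IsFam P ∧ HasFam D L i P := by
  refine exists_fam_of_natural
    (fun B _ _ χ => (((L.pt B).symm (D.pt B χ ≫ i) : (Matrix (Fin m) (Fin m) B)ˣ) : Matrix (Fin m) (Fin m) B))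
    ?_ ?_ ?_
  · intro B B' _ _ _ _ f χ
    have h : (L.pt B').symm (D.pt B' ((f : B →* B').comp χ) ≫ i) =
        Units.map (f.mapMatrix : Matrix (Fin m) (Fin m) B →ₐ[R] _).toMonoidHom ((L.pt B).symm (D.pt B χ ≫ i)) := by
      apply (L.pt B').injective
      rw [MulEquiv.apply_symm_apply, ← L.natural, MulEquiv.apply_symm_apply, ← D.natural, Category.assoc]
    exact (congrArg Units.val h).symm
  · intro B _ _ χ ψ
    rw [map_mul (D.pt B), MonObj.mul_comp, map_mul, Units.val_mul]
  · rw [map_one (D.pt R), MonObj.one_comp, map_one, Units.val_one]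

variable (D L) in
theorem exists_hasFam {P : M → Matrix (Fin m) (Fin m) R} (hP : IsFam P) :
    ∃ i : T ⟶ G, IsMonHom i ∧ HasFam D L i P := by
  obtain ⟨i, hi⟩ := D.exists_hom (fun B _ _ χ => L.pt B (evU hP χ)) fun {B B'} _ _ _ _ f χ => by
    rw [L.natural]
    exact congrArg _ (Units.ext (ev_map P f χ))
  have h : HasFam D L i P := fun B _ _ χ => by rw [hi, MulEquiv.symm_apply_apply]; rfl
  exact ⟨i, h.isMonHom hP, h⟩

theorem HasFam.conjBy {i : T ⟶ G} {P : M → Matrix (Fin m) (Fin m) R} (h : HasFam D L i P) (hP : IsFam P)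
    (g : 𝟙_ (Over (Spec (CommRingCat.of R))) ⟶ G) :
    HasFam D L (AGF.conjBy g i) fun a =>
      (((L.pt R).symm (toUnit (CoactBr.sp R R) ≫ g) : (Matrix (Fin m) (Fin m) R)ˣ) : Matrix (Fin m) (Fin m) R) *
        P a * (↑((L.pt R).symm (toUnit (CoactBr.sp R R) ≫ g))⁻¹ : Matrix (Fin m) (Fin m) R) := by
  intro B _ _ χ
  set G₀ := (L.pt R).symm (toUnit (CoactBr.sp R R) ≫ g)
  rw [AGF.conjBy, MonObj.comp_mul, MonObj.comp_mul, GrpObj.comp_inv, ← Category.assoc,
    toUnit_unique (D.pt B χ ≫ toUnit T) (toUnit _), L.toUnit_comp g B, h.eq_pt hP]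
  simp only [map_mul, map_inv, MulEquiv.symm_apply_apply]
  rw [Units.val_mul, Units.val_mul, ← map_inv]
  change (G₀ : Matrix (Fin m) (Fin m) R).map (Algebra.ofId R B) * ev P χ *
    (↑G₀⁻¹ : Matrix (Fin m) (Fin m) R).map (Algebra.ofId R B) = _
  rw [ev, ev, Finset.mul_sum, Finset.sum_mul]
  refine Finset.sum_congr rfl fun a _ => ?_
  rw [mul_smul_comm, smul_mul_assoc, Matrix.map_mul, Matrix.map_mul]
  rfl

theorem HasFam.comp {φ : T ⟶ T'} (u : M ≃+ M)
    (hφ : ∀ (B : Type u) [CommRing B] [Algebra R B] (χ : Multiplicative M →* B),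
      D.pt B χ ≫ φ = D'.pt B (χ.comp u.toAddMonoidHom.toMultiplicative))
    {j : T' ⟶ G} {Q : M → Matrix (Fin m) (Fin m) R} (h : HasFam D' L j Q) :
    HasFam D L (φ ≫ j) fun a => Q (u.symm a) := by
  intro B _ _ χ
  rw [← Category.assoc, hφ, h]
  rw [ev, ev, ← (u.symm.toEquiv).sum_comp]
  simp

omit [DecidableEq M] [Fintype M] in
variable (D D') in
/-- The isomorphism given by an automorphism of the character group. -/
theorem exists_iso (u : M ≃+ M) :
    ∃ φ : T ≅ T', ∀ (B : Type u) [CommRing B] [Algebra R B] (χ : Multiplicative M →* B),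
      D.pt B χ ≫ φ.hom = D'.pt B (χ.comp u.toAddMonoidHom.toMultiplicative) := by
  obtain ⟨f, hf⟩ := D.exists_hom (fun B _ _ χ => D'.pt B (χ.comp u.toAddMonoidHom.toMultiplicative))
    fun {B B'} _ _ _ _ f χ => by rw [D'.natural]; rfl
  obtain ⟨g, hg⟩ := D'.exists_hom (fun B _ _ χ => D.pt B (χ.comp u.symm.toAddMonoidHom.toMultiplicative))
    fun {B B'} _ _ _ _ f χ => by rw [D.natural]; rfl
  refine ⟨⟨f, g, D.hom_ext fun B _ _ χ => ?_, D'.hom_ext fun B _ _ χ => ?_⟩, hf⟩
  · rw [← Category.assoc, hf, hg, Category.comp_id]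
    exact congrArg _ (MonoidHom.ext fun x => by simp)
  · rw [← Category.assoc, hg, hf, Category.comp_id]
    exact congrArg _ (MonoidHom.ext fun x => by simp)

variable (D D') in
/-- A homomorphism between diagonalisable groups over a domain comes from the character groups. -/
theorem exists_addHom [IsDomain R] (φ : T ⟶ T') [IsMonHom φ] :
    ∃ v : M →+ M, ∀ (B : Type u) [CommRing B] [Algebra R B] (χ : Multiplicative M →* B),
      D.pt B χ ≫ φ = D'.pt B (χ.comp v.toMultiplicative) := by
  classical
  let ψ : ∀ (B : Type u) [CommRing B] [Algebra R B], (Multiplicative M →* B) → (Multiplicative M →* B) :=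
    fun B _ _ χ => (D'.pt B).symm (D.pt B χ ≫ φ)
  have hnat : ∀ {B B' : Type u} [CommRing B] [Algebra R B] [CommRing B'] [Algebra R B'] (f : B →ₐ[R] B')
      (χ : Multiplicative M →* B), (f : B →* B').comp (ψ B χ) = ψ B' ((f : B →* B').comp χ) := by
    intro B B' _ _ _ _ f χ
    apply (D'.pt B').injective
    simp only [ψ]
    rw [← D'.natural, MulEquiv.apply_symm_apply, MulEquiv.apply_symm_apply, ← D.natural, Category.assoc]
  have hfam : ∀ c : M, ∃ d : M, ∀ (B : Type u) [CommRing B] [Algebra R B] (χ : Multiplicative M →* B),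
      ψ B χ (Multiplicative.ofAdd c) = χ (Multiplicative.ofAdd d) := by
    intro c
    obtain ⟨y, hy, hev⟩ := exists_fam_of_natural (R := R) (M := M) (m := 1)
      (fun B _ _ χ => Matrix.diagonal fun _ => ψ B χ (Multiplicative.ofAdd c))
      (fun {B B'} _ _ _ _ f χ => by
        rw [Matrix.diagonal_map (map_zero f)]
        exact congrArg Matrix.diagonal (funext fun _ => DFunLike.congr_fun (hnat f χ) _))
      (fun B _ _ χ χ' => by
        rw [Matrix.diagonal_mul_diagonal]
        refine congrArg Matrix.diagonal (funext fun _ => ?_)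
        simp only [ψ, map_mul (D.pt B), MonObj.mul_comp, map_mul, MonoidHom.mul_apply])
      (by
        simp only [ψ, map_one (D.pt R), MonObj.one_comp, map_one, MonoidHom.one_apply, Matrix.diagonal_one])
    obtain ⟨d, hd⟩ := exists_eq_single (fun a => y a 0 0)
      (fun a b => by
        have := congrFun (congrFun (hy.mul a b) 0) 0
        rw [Matrix.mul_apply, Fin.sum_univ_one] at this
        rw [this]; split_ifs <;> rfl)
      (by
        have := congrFun (congrFun hy.sum 0) 0
        rwa [Matrix.sum_apply, Matrix.one_apply_eq] at this)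
    refine ⟨d, fun B _ _ χ => ?_⟩
    have h := congrFun (congrFun (hev B χ) 0) 0
    rw [Matrix.diagonal_apply_eq, ev_apply] at h
    rw [h, Finset.sum_eq_single d]
    · have h1 : y d 0 0 = 1 := by rw [show y d 0 0 = (fun a => y a 0 0) d from rfl, hd, Pi.single_eq_same]
      rw [h1, map_one, _root_.mul_one]
    · intro a _ ha
      have h1 : y a 0 0 = 0 := by rw [show y a 0 0 = (fun a => y a 0 0) a from rfl, hd, Pi.single_eq_of_ne ha]
      rw [h1, map_zero, mul_zero]
    · simp
  choose v hv using hfam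
  have hv' : ∀ a b, v (a + b) = v a + v b := by
    intro a b
    have h := hv (a + b) _ (ofM R M)
    rw [ofAdd_add, map_mul, hv, hv, ← map_mul, ← ofAdd_add] at h
    exact (Multiplicative.ofAdd.injective (MonoidAlgebra.of_injective h)).symm
  refine ⟨AddMonoidHom.mk' v hv', fun B _ _ χ => ?_⟩
  rw [← (D'.pt B).apply_symm_apply (D.pt B χ ≫ φ)]
  exact congrArg _ (MonoidHom.ext fun x => hv x.toAdd B χ)

variable (D D') in
/-- An isomorphism between diagonalisable groups over a domain comes from an automorphism. -/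
theorem exists_addEquiv [IsDomain R] (φ : T ≅ T') [IsMonHom φ.hom] :
    ∃ v : M ≃+ M, ∀ (B : Type u) [CommRing B] [Algebra R B] (χ : Multiplicative M →* B),
      D.pt B χ ≫ φ.hom = D'.pt B (χ.comp v.toAddMonoidHom.toMultiplicative) := by
  obtain ⟨v, hv⟩ := exists_addHom D D' φ.hom
  obtain ⟨w, hw⟩ := exists_addHom D' D φ.inv
  have h1 : ∀ x, v (w x) = x := by
    intro x
    have h := hw _ ((ofM R M).comp v.toMultiplicative)
    rw [← hv, Category.assoc, φ.hom_inv_id, Category.comp_id] at h
    exact (Multiplicative.ofAdd.injective (MonoidAlgebra.of_injective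
      (DFunLike.congr_fun ((D.pt _).injective h) (Multiplicative.ofAdd x)))).symm
  have h2 : ∀ x, w (v x) = x := by
    intro x
    have h := hv _ ((ofM R M).comp w.toMultiplicative)
    rw [← hw, Category.assoc, φ.inv_hom_id, Category.comp_id] at h
    exact (Multiplicative.ofAdd.injective (MonoidAlgebra.of_injective
      (DFunLike.congr_fun ((D'.pt _).injective h) (Multiplicative.ofAdd x)))).symm
  exact ⟨{ v with invFun := w, left_inv := h2, right_inv := h1 }, hv⟩

end Obj

section BC

variable {k : Type u} [CommRing k] (K : Type u) [CommRing K] [Algebra k K]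
variable {T G : Over (Spec (CommRingCat.of k))} [GrpObj T] [GrpObj G] {D : DPts k M T} {L : GLPts k m G}

theorem HasFam.bc {i : T ⟶ G} {P : M → Matrix (Fin m) (Fin m) k} (h : HasFam D L i P) :
    HasFam (D.bc K) (L.bc K) ((Over.pullback (Spec.map (CommRingCat.ofHom (algebraMap k K)))).map i)
      fun a => (P a).map (algebraMap k K) := by
  intro B _ _ χ
  letI := Algebra.compHom B (algebraMap k K)
  haveI : IsScalarTower k K B := IsScalarTower.of_algebraMap_eq fun _ => rfl
  have hx : (D.bc K).pt B χ ≫ (Over.pullback (Spec.map (CommRingCat.ofHom (algebraMap k K)))).map i =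
      bcMul G (D.pt B χ ≫ i) := bcPt_comp (D.pt B χ) i
  rw [hx]
  change (((L.pt B).trans (bcMul G)).symm (bcMul (S := K) G (D.pt B χ ≫ i)) :
    (Matrix (Fin m) (Fin m) B)ˣ).val = _
  rw [MulEquiv.symm_trans_apply, MulEquiv.symm_apply_apply, h]
  refine Finset.sum_congr rfl fun a _ => ?_
  rw [Matrix.map_map]
  rfl

end BC

end Groth.L15.MuGL
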