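import Groth.Prelude.Def_CoactBr
import Groth.Prelude.Def_GLin4
import Groth.Prelude.Def_Red
import Groth.Agent.L25.DSPts
import Mathlib.AlgebraicGeometry.AffineScheme
import Mathlib.AlgebraicGeometry.Morphisms.Affine
import Mathlib.LinearAlgebra.Matrix.NonsingularInverse

/-! Points of diagonalisable groups and of the general linear group with values in algebras. -/

set_option autoImplicit false
universe u

open CategoryTheory CategoryTheory.Limits MonoidalCategory CartesianMonoidalCategory MonObj GrpObj
open AlgebraicGeometry Opposite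

set_option backward.isDefEq.respectTransparency.types false

noncomputable section

namespace Groth.L15.MuGL

/-- Affine objects are spectra. -/
theorem exists_isIso_sp {R : Type u} [CommRing R] (T : Over (Spec (CommRingCat.of R))) [IsAffine T.left] :
    ∃ (A : Type u) (_ : CommRing A) (_ : Algebra R A) (g : CoactBr.sp R A ⟶ T), IsIso g := by
  let A := Γ(T.left, ⊤)
  let φ : CommRingCat.of R ⟶ A := (Scheme.ΓSpecIso (CommRingCat.of R)).inv ≫ T.hom.appTop
  letI : Algebra R A := φ.hom.toAlgebra
  have hw : T.left.toSpecΓ ≫ Spec.map φ = T.hom := by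
    rw [Spec.map_comp, ← Scheme.toSpecΓ_naturality_assoc, ← Scheme.isoSpec_Spec_inv,
      Scheme.toSpecΓ_isoSpec_inv, Category.comp_id]
  let g : T ⟶ CoactBr.sp R A := Over.homMk T.left.toSpecΓ hw
  haveI : IsIso g.left := inferInstanceAs (IsIso T.left.toSpecΓ)
  haveI : IsIso g := by
    haveI : IsIso ((Over.forget _).map g) := ‹IsIso g.left›
    exact isIso_of_reflects_iso g (Over.forget _)
  exact ⟨A, inferInstance, inferInstance, inv g, inferInstance⟩

section Basic

variable (R : Type u) [CommRing R]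

theorem isIso_toUnit_self : IsIso (toUnit (CoactBr.sp R R)) := by
  have h : (toUnit (CoactBr.sp R R)).left = Spec.map (CommRingCat.ofHom (algebraMap R R)) := by
    have := Over.w (toUnit (CoactBr.sp R R))
    exact (Category.comp_id _).symm.trans this
  have h2 : IsIso (toUnit (CoactBr.sp R R)).left := by
    rw [h, Algebra.algebraMap_self, show CommRingCat.ofHom (RingHom.id R) = 𝟙 _ from rfl, Spec.map_id]
    exact ⟨⟨𝟙 _, Category.id_comp _, Category.id_comp _⟩⟩
  haveI : IsIso ((Over.forget _).map (toUnit (CoactBr.sp R R))) := h2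
  exact isIso_of_reflects_iso _ (Over.forget _)

theorem pt_surjective {B K : Type u} [CommRing B] [Algebra R B] [CommRing K] [Algebra R K]
    (t : CoactBr.sp R K ⟶ CoactBr.sp R B) : ∃ φ : B →ₐ[R] K, CoactBr.pt φ = t := by
  obtain ⟨f, hf⟩ := Spec.map_surjective t.left
  have hw : CommRingCat.ofHom (algebraMap R B) ≫ f = CommRingCat.ofHom (algebraMap R K) :=
    Spec.map_injective (by rw [Spec.map_comp, hf]; exact Over.w t)
  refine ⟨{ f.hom with commutes' := fun r => congrArg (fun φ => φ.hom r) hw }, ?_⟩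
  apply Over.OverMorphism.ext
  exact hf

end Basic

section DP

/-- The points of `T` with values in algebras are the characters of `M`. -/
structure DPts (R : Type u) [CommRing R] (M : Type) [AddCommGroup M]
    (T : Over (Spec (CommRingCat.of R))) [GrpObj T] where
  affine : IsAffine T.left
  pt : ∀ (B : Type u) [CommRing B] [Algebra R B], (Multiplicative M →* B) ≃* (CoactBr.sp R B ⟶ T)
  natural : ∀ {B B' : Type u} [CommRing B] [Algebra R B] [CommRing B'] [Algebra R B']
    (f : B →ₐ[R] B') (χ : Multiplicative M →* B),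
    CoactBr.pt f ≫ pt B χ = pt B' ((f : B →* B').comp χ)

variable {R : Type u} [CommRing R] {M : Type} [AddCommGroup M]

/-- Scalars as global functions. -/
abbrev toΓ (B : Type u) [CommRing B] : B →* Γ(Spec (CommRingCat.of B), ⊤) :=
  (Scheme.ΓSpecIso (CommRingCat.of B)).inv.hom.toMonoidHom

/-- Global functions as scalars. -/
abbrev ofΓ (B : Type u) [CommRing B] : Γ(Spec (CommRingCat.of B), ⊤) →* B :=
  (Scheme.ΓSpecIso (CommRingCat.of B)).hom.hom.toMonoidHom

theorem toΓ_ofΓ (B : Type u) [CommRing B] (x : Γ(Spec (CommRingCat.of B), ⊤)) : toΓ B (ofΓ B x) = x :=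
  (Scheme.ΓSpecIso (CommRingCat.of B)).commRingCatIsoToRingEquiv.symm_apply_apply x

theorem ofΓ_toΓ (B : Type u) [CommRing B] (x : B) : ofΓ B (toΓ B x) = x :=
  (Scheme.ΓSpecIso (CommRingCat.of B)).commRingCatIsoToRingEquiv.apply_symm_apply x

/-- `D_S(M)` has character points. -/
def dPtsDS (R : Type u) [CommRing R] (M : Type) [AddCommGroup M] :
    DPts R M (Red.DS (Spec (CommRingCat.of R)) M) where
  affine := by
    haveI : IsAffine (Groth.L25.DSPts.GZ.{u} M).left :=
      inferInstanceAs (IsAffine (Spec (CommRingCat.of (Groth.L25.DSPts.Coord.{u} M))))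
    exact inferInstanceAs (IsAffine (pullback (Groth.L25.DSPts.GZ.{u} M).hom
      (GmPts.toBaseZ (Spec (CommRingCat.of R)))))
  pt B _ _ :=
    { toFun := fun χ => Groth.L25.DSPts.pt (T := CoactBr.sp R B) ((toΓ B).comp χ)
      invFun := fun t => (ofΓ B).comp (Groth.L25.DSPts.char t)
      left_inv := fun χ => MonoidHom.ext fun x => by
        change ofΓ B (Groth.L25.DSPts.char (Groth.L25.DSPts.pt (T := CoactBr.sp R B) ((toΓ B).comp χ)) x) = χ x
        rw [Groth.L25.DSPts.char_pt]
        exact ofΓ_toΓ B (χ x)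
      right_inv := fun t => Groth.L25.DSPts.char_injective (MonoidHom.ext fun x => by
        rw [Groth.L25.DSPts.char_pt]
        exact toΓ_ofΓ B _)
      map_mul' := fun χ ψ => by
        rw [← Groth.L25.DSPts.pt_mul]
        congr 1
        exact MonoidHom.ext fun x => map_mul (toΓ B) _ _ }
  natural := by
    intro B B' _ _ _ _ f χ
    apply Groth.L25.DSPts.char_injective
    refine MonoidHom.ext fun x => ?_
    rw [Groth.L25.DSPts.char_comp]
    change (CoactBr.pt f).left.appTop.hom
      (Groth.L25.DSPts.char (Groth.L25.DSPts.pt (T := CoactBr.sp R B) ((toΓ B).comp χ)) x) =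
        Groth.L25.DSPts.char (Groth.L25.DSPts.pt (T := CoactBr.sp R B') ((toΓ B').comp ((f : B →* B').comp χ))) x
    rw [Groth.L25.DSPts.char_pt, Groth.L25.DSPts.char_pt]
    exact (congrArg (fun ψ => (ConcreteCategory.hom ψ) (χ x))
      (Scheme.ΓSpecIso_inv_naturality (CommRingCat.ofHom f.toRingHom))).symm

/-- Transport along an isomorphism of group schemes. -/
def DPts.ofIso {T T' : Over (Spec (CommRingCat.of R))} [GrpObj T] [GrpObj T'] (D : DPts R M T)
    (e : T ≅ T') [IsMonHom e.hom] : DPts R M T' where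
  affine := by
    haveI := D.affine
    exact IsAffine.of_isIso e.inv.left
  pt B _ _ := (D.pt B).trans
    { toFun := fun t => t ≫ e.hom
      invFun := fun t => t ≫ e.inv
      left_inv := fun t => by simp
      right_inv := fun t => by simp
      map_mul' := fun a b => MonObj.mul_comp a b e.hom }
  natural := by
    intro B B' _ _ _ _ f χ
    change CoactBr.pt f ≫ D.pt B χ ≫ e.hom = D.pt B' _ ≫ e.hom
    rw [← Category.assoc, D.natural]

end DP

section GLP

/-- The points of `G` with values in algebras are the invertible matrices. -/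
structure GLPts (R : Type u) [CommRing R] (m : ℕ)
    (G : Over (Spec (CommRingCat.of R))) [GrpObj G] where
  pt : ∀ (B : Type u) [CommRing B] [Algebra R B], (Matrix (Fin m) (Fin m) B)ˣ ≃* (CoactBr.sp R B ⟶ G)
  natural : ∀ {B B' : Type u} [CommRing B] [Algebra R B] [CommRing B'] [Algebra R B']
    (f : B →ₐ[R] B') (X : (Matrix (Fin m) (Fin m) B)ˣ),
    CoactBr.pt f ≫ pt B X = pt B' (Units.map (f.mapMatrix : Matrix (Fin m) (Fin m) B →ₐ[R] _).toMonoidHom X)

variable (R : Type u) [CommRing R] (m : ℕ)

/-- The algebra map of an invertible matrix. -/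
def glHom {B : Type u} [CommRing B] [Algebra R B] (X : (Matrix (Fin m) (Fin m) B)ˣ) :
    CoordGrp.GLn m R →ₐ[R] B :=
  CoordGrp.GLn.pt m R (X : Matrix (Fin m) (Fin m) B) (↑X⁻¹ : Matrix (Fin m) (Fin m) B).det
    (by rw [← Matrix.det_mul, Units.mul_inv, Matrix.det_one])

theorem glHom_injective {B : Type u} [CommRing B] [Algebra R B] :
    Function.Injective (glHom R m (B := B)) := fun X Y h => Units.ext (Matrix.ext fun i j => by
  have := AlgHom.congr_fun h (CoordGrp.GLn.X i j)
  rwa [glHom, glHom, CoordGrp.GLn.pt_X, CoordGrp.GLn.pt_X] at this)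

theorem glHom_surjective {B : Type u} [CommRing B] [Algebra R B] :
    Function.Surjective (glHom R m (B := B)) := fun φ => by
  let X := φ.mapMatrix (CoordGrp.GLn.genMat m R)
  have hdet : X.det * φ CoordGrp.GLn.Dinv = 1 := by
    rw [← AlgHom.map_det, ← CoordGrp.GLn.det_eq, ← map_mul, CoordGrp.GLn.det_mul_Dinv, map_one]
  have hu : IsUnit X.det := IsUnit.of_mul_eq_one _ hdet
  refine ⟨X.nonsingInvUnit hu, CoordGrp.GLn.algHom_ext (fun i j => ?_) ?_⟩
  · rw [glHom, CoordGrp.GLn.pt_X]
    rfl
  · rw [glHom, CoordGrp.GLn.pt_Dinv]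
    refine (left_inv_eq_right_inv (b := (↑(X.nonsingInvUnit hu)⁻¹ : Matrix (Fin m) (Fin m) B).det) ?_ hdet)
    rw [← Matrix.det_mul]
    change ((↑(X.nonsingInvUnit hu)⁻¹ : Matrix (Fin m) (Fin m) B) * (X.nonsingInvUnit hu : Matrix (Fin m) (Fin m) B)).det = 1
    rw [Units.inv_mul, Matrix.det_one]

theorem glHom_mul {B : Type u} [CommRing B] [Algebra R B] (X Y : (Matrix (Fin m) (Fin m) B)ˣ) :
    CoactBr.pt (glHom R m (X * Y)) = CoactBr.pt (glHom R m X) * CoactBr.pt (glHom R m Y) := by
  rw [CoactBr.pt_mul_pt]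
  congr 1
  refine CoordGrp.GLn.algHom_ext (fun i j => ?_) ?_
  · rw [AlgHom.comp_apply, Bialgebra.comulAlgHom_apply, CoordGrp.GLn.comul_X, map_sum]
    simp only [Algebra.TensorProduct.lift_tmul, glHom, CoordGrp.GLn.pt_X]
    exact Matrix.mul_apply
  · rw [AlgHom.comp_apply, Bialgebra.comulAlgHom_apply, CoordGrp.GLn.comul_Dinv]
    simp only [Algebra.TensorProduct.lift_tmul, glHom, CoordGrp.GLn.pt_Dinv, _root_.mul_inv_rev, Units.val_mul,
      Matrix.det_mul]
    exact mul_comm _ _

/-- `GL_m` has matrix points. -/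
def glPtsSp : GLPts R m (CoactBr.sp R (CoordGrp.GLn m R)) where
  pt B _ _ :=
    { Equiv.ofBijective (fun X => CoactBr.pt (glHom R m X))
        ⟨CoactBr.pt_injective.comp (glHom_injective R m), fun t => by
          obtain ⟨φ, rfl⟩ := pt_surjective R t
          obtain ⟨X, rfl⟩ := glHom_surjective R m φ
          exact ⟨X, rfl⟩⟩ with
      map_mul' := glHom_mul R m }
  natural := by
    intro B B' _ _ _ _ f X
    change CoactBr.pt f ≫ CoactBr.pt (glHom R m X) = CoactBr.pt (glHom R m _)
    rw [← CoactBr.pt_comp]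
    congr 1
    refine CoordGrp.GLn.algHom_ext (fun i j => ?_) ?_
    · simp only [AlgHom.comp_apply, glHom, CoordGrp.GLn.pt_X]
      rfl
    · simp only [AlgHom.comp_apply, glHom, CoordGrp.GLn.pt_Dinv]
      exact f.map_det _

variable {R m}

theorem GLPts.exists_point {G : Over (Spec (CommRingCat.of R))} [GrpObj G] (L : GLPts R m G)
    (G₀ : (Matrix (Fin m) (Fin m) R)ˣ) :
    ∃ g : 𝟙_ (Over (Spec (CommRingCat.of R))) ⟶ G, toUnit (CoactBr.sp R R) ≫ g = L.pt R G₀ := by
  haveI := isIso_toUnit_self R
  exact ⟨inv (toUnit (CoactBr.sp R R)) ≫ L.pt R G₀, IsIso.hom_inv_id_assoc _ _⟩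

theorem GLPts.toUnit_comp {G : Over (Spec (CommRingCat.of R))} [GrpObj G] (L : GLPts R m G)
    (g : 𝟙_ (Over (Spec (CommRingCat.of R))) ⟶ G) (B : Type u) [CommRing B] [Algebra R B] :
    toUnit (CoactBr.sp R B) ≫ g =
      L.pt B (Units.map ((Algebra.ofId R B).mapMatrix : Matrix (Fin m) (Fin m) R →ₐ[R] _).toMonoidHom
        ((L.pt R).symm (toUnit (CoactBr.sp R R) ≫ g))) := by
  rw [← L.natural, MulEquiv.apply_symm_apply, ← Category.assoc,
    toUnit_unique (CoactBr.pt (Algebra.ofId R B) ≫ toUnit _) (toUnit _)]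

end GLP

section BC

variable (R : Type u) [CommRing R] (S : Type u) [CommRing S] [Algebra R S]

/-- The base change functor on points. -/
abbrev bcF : Over (Spec (CommRingCat.of R)) ⥤ Over (Spec (CommRingCat.of S)) :=
  Over.pullback (Spec.map (CommRingCat.ofHom (algebraMap R S)))

variable {R S}
variable {B : Type u} [CommRing B] [Algebra R B] [Algebra S B] [IsScalarTower R S B]

theorem sp_hom_comp (R S B : Type u) [CommRing R] [CommRing S] [Algebra R S] [CommRing B] [Algebra R B]
    [Algebra S B] [IsScalarTower R S B] :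
    (CoactBr.sp S B).hom ≫ Spec.map (CommRingCat.ofHom (algebraMap R S)) = (CoactBr.sp R B).hom := by
  change Spec.map _ ≫ Spec.map _ = Spec.map _
  rw [← Spec.map_comp, ← CommRingCat.ofHom_comp, ← IsScalarTower.algebraMap_eq]

/-- Points of a base change. -/
def bcPt (X : Over (Spec (CommRingCat.of R))) :
    (CoactBr.sp R B ⟶ X) ≃ (CoactBr.sp S B ⟶ (bcF R S).obj X) where
  toFun x := Over.homMk (pullback.lift x.left (CoactBr.sp S B).hom ((Over.w x).trans (sp_hom_comp R S B).symm))
    (pullback.lift_snd _ _ _)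
  invFun a := Over.homMk (a.left ≫ pullback.fst X.hom _) (by
    have h : a.left ≫ pullback.snd X.hom (Spec.map (CommRingCat.ofHom (algebraMap R S))) = (CoactBr.sp S B).hom :=
      Over.w a
    rw [Category.assoc, pullback.condition, ← Category.assoc]
    exact (congrArg (· ≫ Spec.map (CommRingCat.ofHom (algebraMap R S))) h).trans (sp_hom_comp R S B))
  left_inv x := Over.OverMorphism.ext (pullback.lift_fst _ _ _)
  right_inv a := by
    apply Over.OverMorphism.ext
    apply pullback.hom_ext
    · exact pullback.lift_fst _ _ _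
    · exact (pullback.lift_snd _ _ _).trans (Over.w a).symm

theorem bcPt_comp {X X' : Over (Spec (CommRingCat.of R))} (x : CoactBr.sp R B ⟶ X) (f : X ⟶ X') :
    bcPt (S := S) X x ≫ (bcF R S).map f = bcPt X' (x ≫ f) := by
  apply Over.OverMorphism.ext
  apply pullback.hom_ext
  · simp only [bcPt, Equiv.coe_fn_mk, Over.comp_left, Over.homMk_left, Over.pullback_map_left,
      Category.assoc, pullback.lift_fst, pullback.lift_fst_assoc]
    rfl
  · simp only [bcPt, Equiv.coe_fn_mk, Over.comp_left, Over.homMk_left, Over.pullback_map_left,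
      Category.assoc, pullback.lift_snd]

theorem bcPt_natural {B' : Type u} [CommRing B'] [Algebra R B'] [Algebra S B'] [IsScalarTower R S B']
    (X : Over (Spec (CommRingCat.of R))) (f : B →ₐ[S] B') (x : CoactBr.sp R B ⟶ X) :
    CoactBr.pt f ≫ bcPt (S := S) X x = bcPt X (CoactBr.pt (f.restrictScalars R) ≫ x) := by
  apply Over.OverMorphism.ext
  apply pullback.hom_ext
  · simp only [bcPt, Equiv.coe_fn_mk, Over.comp_left, Over.homMk_left, Category.assoc, pullback.lift_fst]
    rfl
  · simp only [bcPt, Equiv.coe_fn_mk, Over.comp_left, Over.homMk_left, Category.assoc, pullback.lift_snd]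
    exact Over.w (CoactBr.pt f)

/-- Points of a base-changed group. -/
def bcMul (G : Over (Spec (CommRingCat.of R))) [GrpObj G] :
    (CoactBr.sp R B ⟶ G) ≃* (CoactBr.sp S B ⟶ Red.bc (Spec.map (CommRingCat.ofHom (algebraMap R S))) G) where
  __ := bcPt G
  map_mul' a b := by
    have key : ∀ g : CoactBr.sp R B ⟶ G,
        bcPt (S := S) G g = bcPt (S := S) (CoactBr.sp R B) (𝟙 _) ≫ (bcF R S).map g := fun g => by
      rw [bcPt_comp, Category.id_comp]
    change bcPt (S := S) G (a * b) = bcPt (S := S) G a * bcPt (S := S) G b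
    rw [key a, key b, key (a * b), show (bcF R S).map (a * b) = (bcF R S).map a * (bcF R S).map b from
      map_mul ((bcF R S).homMonoidHom) _ _, MonObj.comp_mul]

end BC

section BCPts

variable {R : Type u} [CommRing R] (S : Type u) [CommRing S] [Algebra R S] {M : Type} [AddCommGroup M] {m : ℕ}

/-- Base change of character points. -/
def DPts.bc {T : Over (Spec (CommRingCat.of R))} [GrpObj T] (D : DPts R M T) :
    DPts S M (Red.bc (Spec.map (CommRingCat.ofHom (algebraMap R S))) T) where
  affine := by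
    haveI := D.affine
    exact inferInstanceAs (IsAffine (pullback T.hom (Spec.map (CommRingCat.ofHom (algebraMap R S)))))
  pt B _ _ :=
    letI := Algebra.compHom B (algebraMap R S)
    haveI : IsScalarTower R S B := IsScalarTower.of_algebraMap_eq fun _ => rfl
    (D.pt B).trans (bcMul T)
  natural := by
    intro B B' _ _ _ _ f χ
    letI := Algebra.compHom B (algebraMap R S)
    haveI : IsScalarTower R S B := IsScalarTower.of_algebraMap_eq fun _ => rfl
    letI := Algebra.compHom B' (algebraMap R S)
    haveI : IsScalarTower R S B' := IsScalarTower.of_algebraMap_eq fun _ => rfl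
    change CoactBr.pt f ≫ bcPt T (D.pt B χ) = bcPt T (D.pt B' _)
    rw [bcPt_natural, D.natural]
    rfl

/-- Base change of matrix points. -/
def GLPts.bc {G : Over (Spec (CommRingCat.of R))} [GrpObj G] (L : GLPts R m G) :
    GLPts S m (Red.bc (Spec.map (CommRingCat.ofHom (algebraMap R S))) G) where
  pt B _ _ :=
    letI := Algebra.compHom B (algebraMap R S)
    haveI : IsScalarTower R S B := IsScalarTower.of_algebraMap_eq fun _ => rfl
    (L.pt B).trans (bcMul G)
  natural := by
    intro B B' _ _ _ _ f X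
    letI := Algebra.compHom B (algebraMap R S)
    haveI : IsScalarTower R S B := IsScalarTower.of_algebraMap_eq fun _ => rfl
    letI := Algebra.compHom B' (algebraMap R S)
    haveI : IsScalarTower R S B' := IsScalarTower.of_algebraMap_eq fun _ => rfl
    change CoactBr.pt f ≫ bcPt G (L.pt B X) = bcPt G (L.pt B' _)
    rw [bcPt_natural, L.natural]
    rfl

end BCPts

end Groth.L15.MuGL
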